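/-
The orbits of a Sextet stabiliser on objects of kind Octad.
-/
import Cfsg.Agent.Lib.Golay.CrossBase
import Cfsg.Agent.Lib.Golay.CrossData.SextetOctad
import Cfsg.Agent.Lib.Golay.Suborbit.Octad
import Cfsg.Agent.Lib.Golay.Suborbit.Sextet

set_option autoImplicit false
set_option maxRecDepth 1000000

namespace Cfsg.Agent.Lib.Golay.Cross.SextetOctad

open Cfsg
open scoped Pointwise
open Cfsg.Agent.Lib.Orbit
open Cfsg.Agent.Lib.Golay.StabCert
open Cfsg.Agent.Lib.Golay.CrossData.SextetOctad

theorem checks : maskCoding.orbsOk Orbits.Sextet.gens orbits = true ∧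
    distinctOk (fun m => decide (m < 2 ^ 24)) (fun m => m % 4096) (orbits.flatMap Coding.orbCodes) = true := by
  decide +kernel

theorem sizes : (orbits.map fun o => (Coding.orbCodes o).length) = [15, 360, 384] := by
  decide +kernel

theorem roots_ok : orbits.all (fun o => isCodeMask o.1 && popCount o.1 == 8) = true := by decide +kernel

theorem decomp : maskCoding.CrossDecomp (MulAction.stabilizer ↥M24 (famOf Orbits.Sextet.base)) octads
    Orbits.Sextet.gens orbits where
  valid := famCoding.gensFix_valid Suborbit.Sextet.checks.1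
  mem := famCoding.gensFix_mem Suborbit.Sextet.checks.1
  ok := checks.1
  inv := fun g _ _ hS => smul_octad g hS
  roots := fun o ho => mem_octads_of_mask (List.all_eq_true.mp roots_ok o ho)
  nodup := nodup_mask _ checks.2
  count := by
    rw [ncard_octads, List.length_flatMap, sizes]
    rfl
  fin := Set.toFinite _

theorem fix_base {g : ↥M24} (hg : g • (famOf Orbits.Sextet.base) = (famOf Orbits.Sextet.base)) : g • (famOf Orbits.Sextet.base) = (famOf Orbits.Sextet.base) := hg

/-- The invariant separating the orbits. -/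
def inv (x : Finset GolayPt) : ℕ := setProfile (famOf Orbits.Sextet.base) x

theorem inv_smul : ∀ g ∈ MulAction.stabilizer ↥M24 (famOf Orbits.Sextet.base), ∀ z ∈ octads, inv (g • z) = inv z :=
  fun g hg z _ => setProfile_smul g (famOf Orbits.Sextet.base) (fix_base hg) z

theorem canon_ok : canonFam Orbits.Sextet.base = true ∧ orbits.all (fun o => canonFam [o.1]) = true := by
  decide +kernel

theorem inv_code {o : ℕ × OrbTree ℕ} (ho : o ∈ orbits) :
    inv (ptsOf o.1) = meetProfileCode Orbits.Sextet.base [o.1] 0 := by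
  have h := List.all_eq_true.mp canon_ok.2 o ho
  show meetProfile (famOf Orbits.Sextet.base) {ptsOf o.1} 0 = _
  rw [← Cross.famOf_singleton, meetProfile_code canon_ok.1 h]

theorem sep : (orbits.map fun o => inv (ptsOf o.1)).Nodup := by
  rw [List.map_congr_left fun o ho => inv_code ho]
  decide +kernel

theorem at_conj (g : ↥M24) :
    (∀ o ∈ orbits, g • ptsOf o.1 ∈ octads ∧
      (MulAction.orbit (MulAction.stabilizer ↥M24 (g • (famOf Orbits.Sextet.base))) (g • ptsOf o.1)).ncard =
        (Coding.orbCodes o).length) ∧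
    ∀ z, z ∈ octads ↔ ∃ o ∈ orbits,
      z ∈ MulAction.orbit (MulAction.stabilizer ↥M24 (g • (famOf Orbits.Sextet.base))) (g • ptsOf o.1) :=
  Cross.transport decomp inv inv_smul sep (fun g _ hz => smul_octad g hz) g

theorem cover (g : ↥M24) :
    g • ptsOf root0 ∈ octads ∧
    g • ptsOf root1 ∈ octads ∧
    g • ptsOf root2 ∈ octads ∧
    (MulAction.orbit (MulAction.stabilizer ↥M24 (g • (famOf Orbits.Sextet.base))) (g • ptsOf root0)).ncard = 15 ∧
    (MulAction.orbit (MulAction.stabilizer ↥M24 (g • (famOf Orbits.Sextet.base))) (g • ptsOf root1)).ncard = 360 ∧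
    (MulAction.orbit (MulAction.stabilizer ↥M24 (g • (famOf Orbits.Sextet.base))) (g • ptsOf root2)).ncard = 384 ∧
    octads = MulAction.orbit (MulAction.stabilizer ↥M24 (g • (famOf Orbits.Sextet.base))) (g • ptsOf root0) ∪
      MulAction.orbit (MulAction.stabilizer ↥M24 (g • (famOf Orbits.Sextet.base))) (g • ptsOf root1) ∪
      MulAction.orbit (MulAction.stabilizer ↥M24 (g • (famOf Orbits.Sextet.base))) (g • ptsOf root2) := by
  obtain ⟨h, hall⟩ := at_conj g
  have m0 : (root0, tree0) ∈ orbits := List.mem_cons_self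
  have m1 : (root1, tree1) ∈ orbits := (List.mem_cons_of_mem _ List.mem_cons_self)
  have m2 : (root2, tree2) ∈ orbits := (List.mem_cons_of_mem _ (List.mem_cons_of_mem _ List.mem_cons_self))
  have hs := sizes
  simp only [orbits, List.map_cons, List.map_nil, List.cons.injEq, and_true] at hs
  refine ⟨(h _ m0).1, (h _ m1).1, (h _ m2).1, (h _ m0).2.trans hs.1, (h _ m1).2.trans hs.2.1, (h _ m2).2.trans hs.2.2, ?_⟩
  ext z
  rw [hall z]
  simp only [orbits, List.mem_cons, List.not_mem_nil, or_false, exists_eq_or_imp, exists_eq_left,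
    Set.mem_union, or_assoc]

end Cfsg.Agent.Lib.Golay.Cross.SextetOctad
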