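/-
The orbits of a Triad stabiliser on objects of kind Sextet.
-/
import Cfsg.Agent.Lib.Golay.CrossBase
import Cfsg.Agent.Lib.Golay.CrossData.TriadSextet
import Cfsg.Agent.Lib.Golay.Suborbit.Sextet
import Cfsg.Agent.Lib.Golay.Suborbit.Triad

set_option autoImplicit false
set_option maxRecDepth 1000000

namespace Cfsg.Agent.Lib.Golay.Cross.TriadSextet

open Cfsg
open scoped Pointwise
open Cfsg.Agent.Lib.Orbit
open Cfsg.Agent.Lib.Golay.StabCert
open Cfsg.Agent.Lib.Golay.CrossData.TriadSextet

theorem checks : famCoding.orbsOk Orbits.Triad.gens orbits = true ∧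
    distinctOk canonFam Orbits.Sextet.key (orbits.flatMap Coding.orbCodes) = true := by
  decide +kernel

theorem sizes : (orbits.map fun o => (Coding.orbCodes o).length) = [21, 630, 1120] := by
  decide +kernel

theorem roots_ok : orbits.all (fun o => Suborbit.Sextet.isSextetCode o.1) = true := by decide +kernel

theorem decomp : famCoding.CrossDecomp (MulAction.stabilizer ↥M24 (ptsOf Orbits.Triad.base)) sextets
    Orbits.Triad.gens orbits where
  valid := maskCoding.gensFix_valid Suborbit.Triad.checks.1
  mem := maskCoding.gensFix_mem Suborbit.Triad.checks.1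
  ok := checks.1
  inv := fun g _ _ hS => smul_sextet g hS
  roots := fun o ho => Suborbit.Sextet.famOf_sextet (List.all_eq_true.mp roots_ok o ho)
  nodup := nodup_fam Orbits.Sextet.key checks.2
  count := by
    rw [ncard_sextets, List.length_flatMap, sizes]
    rfl
  fin := Set.toFinite _

theorem fix_base {g : ↥M24} (hg : g • (ptsOf Orbits.Triad.base) = (ptsOf Orbits.Triad.base)) : g • (famOf [Orbits.Triad.base]) = (famOf [Orbits.Triad.base]) := by
  rw [Cross.famOf_singleton, Finset.smul_finset_singleton, hg]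

/-- The invariant separating the orbits. -/
def inv (T : Finset (Finset GolayPt)) : ℕ := meetProfile (famOf [Orbits.Triad.base]) T 0

theorem inv_smul : ∀ g ∈ MulAction.stabilizer ↥M24 (ptsOf Orbits.Triad.base), ∀ z ∈ sextets, inv (g • z) = inv z :=
  fun g hg z _ => famProfile_smul g (famOf [Orbits.Triad.base]) (fix_base hg) z

theorem canon_ok : canonFam [Orbits.Triad.base] = true ∧ orbits.all (fun o => canonFam o.1) = true := by
  decide +kernel

theorem inv_code {o : List ℕ × OrbTree (List ℕ)} (ho : o ∈ orbits) :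
    inv (famOf o.1) = meetProfileCode [Orbits.Triad.base] o.1 0 := by
  have h := List.all_eq_true.mp canon_ok.2 o ho
  show meetProfile (famOf [Orbits.Triad.base]) (famOf o.1) 0 = _
  rw [meetProfile_code canon_ok.1 h]

theorem sep : (orbits.map fun o => inv (famOf o.1)).Nodup := by
  rw [List.map_congr_left fun o ho => inv_code ho]
  decide +kernel

theorem at_conj (g : ↥M24) :
    (∀ o ∈ orbits, g • famOf o.1 ∈ sextets ∧
      (MulAction.orbit (MulAction.stabilizer ↥M24 (g • (ptsOf Orbits.Triad.base))) (g • famOf o.1)).ncard =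
        (Coding.orbCodes o).length) ∧
    ∀ z, z ∈ sextets ↔ ∃ o ∈ orbits,
      z ∈ MulAction.orbit (MulAction.stabilizer ↥M24 (g • (ptsOf Orbits.Triad.base))) (g • famOf o.1) :=
  Cross.transport decomp inv inv_smul sep (fun g _ hz => smul_sextet g hz) g

theorem cover (g : ↥M24) :
    g • famOf root0 ∈ sextets ∧
    g • famOf root1 ∈ sextets ∧
    g • famOf root2 ∈ sextets ∧
    (MulAction.orbit (MulAction.stabilizer ↥M24 (g • (ptsOf Orbits.Triad.base))) (g • famOf root0)).ncard = 21 ∧
    (MulAction.orbit (MulAction.stabilizer ↥M24 (g • (ptsOf Orbits.Triad.base))) (g • famOf root1)).ncard = 630 ∧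
    (MulAction.orbit (MulAction.stabilizer ↥M24 (g • (ptsOf Orbits.Triad.base))) (g • famOf root2)).ncard = 1120 ∧
    sextets = MulAction.orbit (MulAction.stabilizer ↥M24 (g • (ptsOf Orbits.Triad.base))) (g • famOf root0) ∪
      MulAction.orbit (MulAction.stabilizer ↥M24 (g • (ptsOf Orbits.Triad.base))) (g • famOf root1) ∪
      MulAction.orbit (MulAction.stabilizer ↥M24 (g • (ptsOf Orbits.Triad.base))) (g • famOf root2) := by
  obtain ⟨h, hall⟩ := at_conj g
  have m0 : (root0, tree0) ∈ orbits := List.mem_cons_self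
  have m1 : (root1, tree1) ∈ orbits := (List.mem_cons_of_mem _ List.mem_cons_self)
  have m2 : (root2, tree2) ∈ orbits := (List.mem_cons_of_mem _ (List.mem_cons_of_mem _ List.mem_cons_self))
  have hs := sizes
  simp only [orbits, List.map_cons, List.map_nil, List.cons.injEq, and_true] at hs
  refine ⟨(h _ m0).1, (h _ m1).1, (h _ m2).1, (h _ m0).2.trans hs.1, (h _ m1).2.trans hs.2.1, (h _ m2).2.trans hs.2.2, ?_⟩
  ext z
  rw [hall z]
  simp only [orbits, List.mem_cons, List.not_mem_nil, or_false, exists_eq_or_imp, exists_eq_left,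
    Set.mem_union, or_assoc]

end Cfsg.Agent.Lib.Golay.Cross.TriadSextet
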